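import Mathlib
import Groth.Agent.CMGraded.Free

/-!
# The elementary Bézout count for two plane curves
-/

universe u

open MvPolynomial

set_option linter.style.haveILetI false

namespace Groth.Agent.PlaneBezout

variable {k : Type u} [Field k]

local notation "S" => MvPolynomial (Fin 3) k
local notation "P" => MvPolynomial (Fin 2) k

theorem finrank_forms (d : ℕ) :
    Module.finrank k ↥(homogeneousSubmodule (Fin 3) k d) = (d + 2).choose 2 := by
  classical
  have e : {e : Fin 3 →₀ ℕ | e.degree = d} ≃ (Finset.univ : Finset (Fin 3)).finsuppAntidiag d :=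
    Equiv.subtypeEquivRight fun e => by simp [Finset.mem_finsuppAntidiag, Finsupp.degree_eq_sum]
  rw [homogeneousSubmodule_eq_finsupp_supported]
  refine (Module.finrank_eq_card_basis
    ((basisRestrictSupport k {e : Fin 3 →₀ ℕ | e.degree = d}).reindex e)).trans ?_
  rw [Fintype.card_coe, Finset.card_finsuppAntidiag_nat_eq_choose, Finset.card_univ, Fintype.card_fin,
    show 3 + d - 1 = d + 2 by omega]
  exact Nat.choose_symm_add

theorem finite_forms (d : ℕ) : Module.Finite k ↥(homogeneousSubmodule (Fin 3) k d) :=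
  Module.Finite.iff_fg.mpr (homogeneousSubmodule_fg (Fin 3) k d)

theorem two_mul_choose (a : ℕ) : 2 * (a + 2).choose 2 = (a + 2) * (a + 1) := by
  induction a with
  | zero => rfl
  | succ a ih =>
    rw [show a + 1 + 2 = (a + 2) + 1 from rfl, Nat.choose_succ_succ, Nat.choose_one_right, mul_add,
      Nat.succ_eq_add_one, show 1 + 1 = 2 from rfl, ih]
    ring

variable {f g : MvPolynomial (Fin 3) k} {n m : ℕ}

theorem finrank_quotient_piece (hf : f.IsHomogeneous n) (hg : g.IsHomogeneous m) (hg0 : g ≠ 0)
    (hfg : IsRelPrime f g) {d : ℕ} (hd : n + m ≤ d) :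
    Module.finrank k
        (↥(homogeneousSubmodule (Fin 3) k d) ⧸
          Submodule.comap (homogeneousSubmodule (Fin 3) k d).subtype
            ((Ideal.span ({f, g} : Set S)).restrictScalars k)) = n * m := by
  obtain ⟨e, rfl⟩ : ∃ e, d = e + n + m := ⟨d - n - m, by omega⟩
  set I := (Ideal.span ({f, g} : Set S)).restrictScalars k
  have := finite_forms (k := k) (e + m)
  have := finite_forms (k := k) (e + n)
  have := finite_forms (k := k) e
  have := finite_forms (k := k) (e + n + m)
  let Φ : (↥(homogeneousSubmodule (Fin 3) k (e + m)) × ↥(homogeneousSubmodule (Fin 3) k (e + n))) →ₗ[k] S :=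
    ((LinearMap.mulRight k f) ∘ₗ (homogeneousSubmodule (Fin 3) k (e + m)).subtype).coprod
      ((LinearMap.mulRight k g) ∘ₗ (homogeneousSubmodule (Fin 3) k (e + n)).subtype)
  have hΦ : ∀ z, Φ z = z.1.1 * f + z.2.1 * g := fun z => rfl
  have hrange : LinearMap.range Φ = I ⊓ homogeneousSubmodule (Fin 3) k (e + n + m) := by
    apply le_antisymm
    · rintro _ ⟨z, rfl⟩
      refine ⟨Ideal.mem_span_pair.mpr ⟨_, _, rfl⟩, ?_⟩
      have h1 := z.1.2.mul hf
      rw [show e + m + n = e + n + m by omega] at h1
      exact h1.add (z.2.2.mul hg)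
    · rintro x ⟨hxI, hxd⟩
      obtain ⟨a, b, hab⟩ := Ideal.mem_span_pair.mp hxI
      refine ⟨(⟨homogeneousComponent (e + m) a, homogeneousComponent_isHomogeneous _ _⟩,
        ⟨homogeneousComponent (e + n) b, homogeneousComponent_isHomogeneous _ _⟩), ?_⟩
      rw [hΦ, ← homogeneousComponent_eq_self hxd, ← hab, map_add,
        CMGraded.homogeneousComponent_mul_of_isHomogeneous hf, CMGraded.homogeneousComponent_mul_of_isHomogeneous hg,
        if_pos (by omega), if_pos (by omega), show e + n + m - n = e + m by omega,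
        show e + n + m - m = e + n by omega]
  let Ψ : ↥(homogeneousSubmodule (Fin 3) k e) →ₗ[k]
      (↥(homogeneousSubmodule (Fin 3) k (e + m)) × ↥(homogeneousSubmodule (Fin 3) k (e + n))) :=
    { toFun := fun c => (⟨c.1 * g, c.2.mul hg⟩, ⟨-(c.1 * f), (c.2.mul hf).neg⟩)
      map_add' := fun x y => by ext <;> simp [add_mul, add_comm]
      map_smul' := fun r x => by ext <;> simp }
  have hΨ : Function.Injective Ψ := fun x y hxy => by
    have h := congrArg (fun z => (z.1 : S)) hxy
    exact Subtype.ext (mul_right_cancel₀ hg0 h)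
  have hker : LinearMap.ker Φ = LinearMap.range Ψ := by
    apply le_antisymm
    · intro z hz
      rw [LinearMap.mem_ker, hΦ] at hz
      obtain ⟨c, hc⟩ : g ∣ z.1.1 := hfg.symm.dvd_of_dvd_mul_right ⟨-z.2.1, by linear_combination hz⟩
      have hc' : z.1.1 = homogeneousComponent e c * g := by
        conv_lhs => rw [← homogeneousComponent_eq_self z.1.2, hc, mul_comm g c,
          CMGraded.homogeneousComponent_mul_of_isHomogeneous hg, if_pos (by omega), show e + m - m = e by omega]
      refine ⟨⟨homogeneousComponent e c, homogeneousComponent_isHomogeneous _ _⟩,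
        Prod.ext (Subtype.ext hc'.symm) (Subtype.ext ?_)⟩
      show -(homogeneousComponent e c * f) = z.2.1
      exact mul_right_cancel₀ hg0 (by linear_combination (-1 : S) * hz + f * hc')
    · rintro _ ⟨c, rfl⟩
      rw [LinearMap.mem_ker, hΦ]
      show c.1 * g * f + -(c.1 * f) * g = 0
      ring
  have h1 := Φ.finrank_range_add_finrank_ker
  rw [hrange, hker, LinearMap.finrank_range_of_inj hΨ, Module.finrank_prod, finrank_forms, finrank_forms,
    finrank_forms] at h1
  have h2 := Submodule.finrank_quotient_add_finrank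
    (Submodule.comap (homogeneousSubmodule (Fin 3) k (e + n + m)).subtype I)
  have h3 : Submodule.comap (homogeneousSubmodule (Fin 3) k (e + n + m)).subtype I =
      Submodule.comap (homogeneousSubmodule (Fin 3) k (e + n + m)).subtype
        (I ⊓ homogeneousSubmodule (Fin 3) k (e + n + m)) := by
    ext x; simp
  rw [show Module.finrank k ↥(Submodule.comap (homogeneousSubmodule (Fin 3) k (e + n + m)).subtype I) =
      Module.finrank k ↥(I ⊓ homogeneousSubmodule (Fin 3) k (e + n + m)) by
    rw [h3]; exact (Submodule.comapSubtypeEquivOfLe inf_le_right).finrank_eq, finrank_forms] at h2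
  have c1 := two_mul_choose (e + m)
  have c2 := two_mul_choose (e + n)
  have c3 := two_mul_choose e
  have c4 := two_mul_choose (e + n + m)
  zify at h1 h2 c1 c2 c3 c4 ⊢
  linarith

@[simp] theorem cons_two {α : Type*} (a b c : α) :
    (Fin.cons a (Fin.cons b (Fin.cons c Fin.elim0)) : Fin 3 → α) 2 = c := rfl

/-- Restriction to the line at infinity. -/
noncomputable abbrev atInfinity : S →ₐ[k] P :=
  aeval (Fin.cons (X 0) (Fin.cons (X 1) (Fin.cons 0 Fin.elim0)) : Fin 3 → P)

/-- Dehomogenization. -/
noncomputable abbrev dehom : S →ₐ[k] P :=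
  aeval (Fin.cons (X 0) (Fin.cons (X 1) (Fin.cons 1 Fin.elim0)) : Fin 3 → P)

theorem X_two_dvd_sub (h : S) :
    (X 2 : S) ∣ h - aeval (![X 0, X 1] : Fin 2 → S) (atInfinity h) := by
  rw [← Ideal.mem_span_singleton, ← Ideal.Quotient.eq]
  have e : ((Ideal.Quotient.mkₐ k (Ideal.span {(X 2 : S)})).comp
      ((aeval (![X 0, X 1] : Fin 2 → S)).comp atInfinity)) = Ideal.Quotient.mkₐ k _ := by
    refine algHom_ext fun i => ?_
    fin_cases i
    · simp [atInfinity]
    · simp [atInfinity]
    · have h2 : Ideal.Quotient.mk (Ideal.span {(X 2 : S)}) (X 2) = 0 :=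
        Ideal.Quotient.eq_zero_iff_mem.mpr (Ideal.mem_span_singleton_self _)
      simp [atInfinity, h2]
  exact (DFunLike.congr_fun e h).symm

theorem X_two_dvd_of_atInfinity_eq_zero {h : S} (h0 : atInfinity h = 0) : (X 2 : S) ∣ h := by
  have := X_two_dvd_sub h
  rwa [h0, map_zero, sub_zero] at this

theorem atInfinity_isHomogeneous {h : S} {d : ℕ} (hh : h.IsHomogeneous d) : (atInfinity h).IsHomogeneous d := by
  have := hh.aeval (Fin.cons (X 0) (Fin.cons (X 1) (Fin.cons 0 Fin.elim0)) : Fin 3 → P) (n := 1) (fun i => by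
    fin_cases i
    · exact isHomogeneous_X k 0
    · exact isHomogeneous_X k 1
    · exact isHomogeneous_zero _ _ _)
  rwa [one_mul] at this

/-- The line at infinity is a non zero divisor modulo the two curves. -/
theorem mem_of_X_two_mul_mem (hf : f.IsHomogeneous n) (hn : 0 < n)
    (hT : IsRelPrime (atInfinity f) (atInfinity g)) {h : S}
    (hh : X 2 * h ∈ Ideal.span ({f, g} : Set S)) : h ∈ Ideal.span ({f, g} : Set S) := by
  obtain ⟨a, b, hab⟩ := Ideal.mem_span_pair.mp hh
  have hg0 : atInfinity g ≠ 0 := by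
    intro h0
    rw [h0, isRelPrime_zero_right, isUnit_iff_totalDegree_of_isReduced] at hT
    have h1 := atInfinity_isHomogeneous hf
    rw [h1.totalDegree (fun he => by rw [he, coeff_zero] at hT; exact not_isUnit_zero hT.1)] at hT
    omega
  have h0 : atInfinity a * atInfinity f + atInfinity b * atInfinity g = 0 := by
    rw [← map_mul, ← map_mul, ← map_add, hab, map_mul]
    simp [atInfinity]
  obtain ⟨c, hc⟩ : atInfinity g ∣ atInfinity a :=
    hT.symm.dvd_of_dvd_mul_right ⟨-atInfinity b, by linear_combination h0⟩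
  obtain ⟨C', hC'⟩ : ∃ C' : S, atInfinity C' = c := ⟨aeval (![X 0, X 1] : Fin 2 → S) c, by
    have e : (atInfinity (k := k)).comp (aeval (![X 0, X 1] : Fin 2 → S)) = AlgHom.id k P :=
      algHom_ext fun i => by fin_cases i <;> simp [atInfinity]
    exact DFunLike.congr_fun e c⟩
  have hb : atInfinity b = -(c * atInfinity f) :=
    mul_right_cancel₀ hg0 (by linear_combination h0 - atInfinity f * hc)
  obtain ⟨a', ha'⟩ := X_two_dvd_of_atInfinity_eq_zero (h := a - C' * g)
    (by rw [map_sub, map_mul, hC', hc]; ring)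
  obtain ⟨b', hb'⟩ := X_two_dvd_of_atInfinity_eq_zero (h := b + C' * f)
    (by rw [map_add, map_mul, hC', hb]; ring)
  refine Ideal.mem_span_pair.mpr ⟨a', b', mul_left_cancel₀ (X_ne_zero (R := k) (2 : Fin 3)) ?_⟩
  linear_combination hab - f * ha' - g * hb'

theorem mem_of_pow_mul_mem (hf : f.IsHomogeneous n) (hn : 0 < n)
    (hT : IsRelPrime (atInfinity f) (atInfinity g)) : ∀ (N : ℕ) {h : S},
    X 2 ^ N * h ∈ Ideal.span ({f, g} : Set S) → h ∈ Ideal.span ({f, g} : Set S)
  | 0, h, hh => by simpa using hh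
  | N + 1, h, hh => mem_of_X_two_mul_mem hf hn hT (mem_of_pow_mul_mem hf hn hT N
      (by rwa [pow_succ, mul_assoc] at hh))

/-- Homogenization in degree `d`. -/
noncomputable def homog (d : ℕ) : P →ₗ[k] S :=
  (basisMonomials (Fin 2) k).constr k fun v => monomial
    (Finsupp.single 0 (v 0) + Finsupp.single 1 (v 1) + Finsupp.single 2 (d - (v 0 + v 1))) 1

theorem homog_monomial (d : ℕ) (v : Fin 2 →₀ ℕ) (r : k) :
    homog d (monomial v r) = monomial
      (Finsupp.single 0 (v 0) + Finsupp.single 1 (v 1) + Finsupp.single 2 (d - (v 0 + v 1))) r := by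
  rw [show monomial v r = r • monomial v (1 : k) by rw [smul_monomial, smul_eq_mul, mul_one], map_smul,
    show (monomial v (1 : k) : P) = basisMonomials (Fin 2) k v from
      (congrFun (coe_basisMonomials (Fin 2) k) v).symm, homog, Module.Basis.constr_basis, smul_monomial,
    smul_eq_mul, mul_one]

theorem dehom_monomial (e : Fin 3 →₀ ℕ) (r : k) :
    dehom (monomial e r) = monomial (Finsupp.single 0 (e 0) + Finsupp.single 1 (e 1)) r := by
  rw [dehom, aeval_monomial, Finsupp.prod_fintype _ _ (fun i => by simp), Fin.prod_univ_three]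
  simp [X_pow_eq_monomial, monomial_mul, C_mul_monomial, algebraMap_eq]

theorem homog_dehom {d : ℕ} {h : S} (hh : h.IsHomogeneous d) : homog d (dehom h) = h := by
  conv_rhs => rw [h.as_sum]
  conv_lhs => rw [h.as_sum]
  rw [map_sum, map_sum]
  refine Finset.sum_congr rfl fun e he => ?_
  rw [dehom_monomial, homog_monomial]
  have hd : e.degree = d := by
    rw [Finsupp.degree_eq_weight_one]
    exact hh (mem_support_iff.mp he)
  rw [Finsupp.degree_eq_sum, Fin.sum_univ_three] at hd
  refine congrArg (fun v => monomial v _) (Finsupp.ext fun i => ?_)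
  fin_cases i <;> simp <;> omega

theorem dehom_homog {d : ℕ} {F : P} (hF : F.totalDegree ≤ d) :
    dehom (homog d F) = F ∧ (homog d F).IsHomogeneous d := by
  constructor
  · conv_rhs => rw [F.as_sum]
    conv_lhs => rw [F.as_sum]
    rw [map_sum, map_sum]
    refine Finset.sum_congr rfl fun v _ => ?_
    rw [homog_monomial, dehom_monomial]
    refine congrArg (fun v => monomial v _) (Finsupp.ext fun i => ?_)
    fin_cases i <;> simp
  · rw [F.as_sum, map_sum]
    refine IsHomogeneous.sum _ _ _ fun v hv => ?_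
    rw [homog_monomial]
    refine isHomogeneous_monomial _ ?_
    have : (v.sum fun _ e => e) ≤ d := (le_totalDegree hv).trans hF
    rw [Finsupp.sum_fintype _ _ (fun _ => rfl), Fin.sum_univ_two] at this
    rw [Finsupp.degree_eq_sum, Fin.sum_univ_three]
    simp
    omega

theorem dehom_X_two_pow_mul (N : ℕ) (h : S) : dehom (X 2 ^ N * h) = dehom h := by
  rw [map_mul, map_pow]
  simp [dehom]

theorem mem_of_dehom_mem (hf : f.IsHomogeneous n) (hg : g.IsHomogeneous m) (hn : 0 < n)
    (hT : IsRelPrime (atInfinity f) (atInfinity g)) {d : ℕ} {h : S} (hh : h.IsHomogeneous d)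
    (hmem : dehom h ∈ Ideal.span ({dehom f, dehom g} : Set P)) : h ∈ Ideal.span ({f, g} : Set S) := by
  obtain ⟨a, b, hab⟩ := Ideal.mem_span_pair.mp hmem
  obtain ⟨hA, hAh⟩ := dehom_homog (d := a.totalDegree + b.totalDegree + m) (F := a) (by omega)
  obtain ⟨hB, hBh⟩ := dehom_homog (d := a.totalDegree + b.totalDegree + n) (F := b) (by omega)
  set D := a.totalDegree + b.totalDegree + n + m
  set da := a.totalDegree + b.totalDegree + m with hda
  set db := a.totalDegree + b.totalDegree + n with hdb
  have hz : (homog da a * f + homog db b * g) * X 2 ^ d = X 2 ^ D * h := by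
    have h1 : ((homog da a * f + homog db b * g) * X 2 ^ d).IsHomogeneous (D + d) := by
      have e1 := hAh.mul hf
      rw [show da + n = D by omega] at e1
      have e2 := (e1.add (hBh.mul hg)).mul (isHomogeneous_X_pow (R := k) (2 : Fin 3) d)
      exact e2
    have h2 : (X 2 ^ D * h).IsHomogeneous (D + d) := (isHomogeneous_X_pow (R := k) (2 : Fin 3) D).mul hh
    rw [← homog_dehom h1, ← homog_dehom h2]
    congr 1
    rw [mul_comm (homog da a * f + _), dehom_X_two_pow_mul, dehom_X_two_pow_mul, map_add, map_mul, map_mul, hA, hB, hab]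
  refine mem_of_pow_mul_mem hf hn hT D (hz ▸ Ideal.mul_mem_right _ _ (Ideal.mem_span_pair.mpr ⟨_, _, rfl⟩))

/-- Degree `d` forms restricted to the affine chart, modulo an ideal. -/
noncomputable def pieceMap (J : Ideal P) (d : ℕ) : ↥(homogeneousSubmodule (Fin 3) k d) →ₗ[k] P ⧸ J :=
  (Ideal.Quotient.mkₐ k J).toLinearMap ∘ₗ (dehom (k := k)).toLinearMap ∘ₗ
    (homogeneousSubmodule (Fin 3) k d).subtype

theorem pieceMap_apply (J : Ideal P) (d : ℕ) (x : ↥(homogeneousSubmodule (Fin 3) k d)) :
    pieceMap J d x = Ideal.Quotient.mk J (dehom x.1) := by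
  simp [pieceMap]

theorem finrank_affine (hf : f.IsHomogeneous n) (hg : g.IsHomogeneous m) (hn : 0 < n) (hg0 : g ≠ 0)
    (hfg : IsRelPrime f g) (hT : IsRelPrime (atInfinity f) (atInfinity g)) :
    Module.finrank k (P ⧸ Ideal.span ({dehom f, dehom g} : Set P)) = n * m := by
  set J := Ideal.span ({dehom f, dehom g} : Set P)
  let L := pieceMap (k := k) J
  have hker : ∀ d, LinearMap.ker (L d) = Submodule.comap (homogeneousSubmodule (Fin 3) k d).subtype
      ((Ideal.span ({f, g} : Set S)).restrictScalars k) := fun d => by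
    ext x
    rw [LinearMap.mem_ker, pieceMap_apply, Ideal.Quotient.eq_zero_iff_mem, Submodule.mem_comap,
      Submodule.restrictScalars_mem, Submodule.coe_subtype]
    refine ⟨mem_of_dehom_mem hf hg hn hT x.2, fun hx => ?_⟩
    obtain ⟨a, b, hab⟩ := Ideal.mem_span_pair.mp hx
    exact Ideal.mem_span_pair.mpr ⟨dehom a, dehom b, by rw [← map_mul, ← map_mul, ← map_add, hab]⟩
  have hfin : ∀ d, Module.Finite k ↥(LinearMap.range (L d)) := fun d => by
    have := finite_forms (k := k) d
    infer_instance
  have hdim : ∀ d, n + m ≤ d → Module.finrank k ↥(LinearMap.range (L d)) = n * m := fun d hd => by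
    rw [← (L d).quotKerEquivRange.finrank_eq, hker]
    exact finrank_quotient_piece hf hg hg0 hfg hd
  have hmono : ∀ d D, d ≤ D → LinearMap.range (L d) ≤ LinearMap.range (L D) := by
    rintro d D hdD _ ⟨x, rfl⟩
    refine ⟨⟨X 2 ^ (D - d) * x.1, ?_⟩, ?_⟩
    · have := (isHomogeneous_X_pow (R := k) (2 : Fin 3) (D - d)).mul x.2
      rwa [Nat.sub_add_cancel hdD] at this
    · rw [pieceMap_apply, pieceMap_apply, dehom_X_two_pow_mul]
  have htop : LinearMap.range (L (n + m)) = ⊤ := by
    refine eq_top_iff.mpr fun q _ => ?_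
    obtain ⟨F, rfl⟩ := Ideal.Quotient.mk_surjective q
    obtain ⟨h1, h2⟩ := dehom_homog (d := F.totalDegree + (n + m)) (F := F) (by omega)
    have := hfin (F.totalDegree + (n + m))
    rw [Submodule.eq_of_le_of_finrank_eq (hmono (n + m) _ (by omega))
      ((hdim _ le_rfl).trans (hdim (F.totalDegree + (n + m)) (by omega)).symm)]
    exact ⟨⟨_, h2⟩, (pieceMap_apply J _ _).trans (congrArg (Ideal.Quotient.mk J) h1)⟩
  rw [← finrank_top k (P ⧸ J), ← htop]
  exact hdim _ le_rfl

end Groth.Agent.PlaneBezout
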